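import Cfsg.Agent.SqClass.Main
import Cfsg.Agent.Core.PCore
import Cfsg.Agent.Core.Solvable
import Mathlib.GroupTheory.SpecificGroups.ZGroup

/-!
# The derived subgroup of a group with square-free class sizes
-/

set_option autoImplicit false

namespace Cfsg.Agent.SqClass

open Subgroup
open scoped commutatorElement

universe u

variable {G : Type u} [Group G] [Finite G] {r : ℕ}

/-- Knoche: if all class sizes of an `r`-group divide `r`, then so does the order of the derived
subgroup. -/
theorem card_commutator_dvd [hr : Fact r.Prime] (hG : IsPGroup r G)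
    (h : ∀ g : G, (centralizer ({g} : Set G)).index ∣ r) : Nat.card (commutator G) ∣ r := by
  have := hG.isNilpotent
  -- centralisers contain all commutators
  have hCle : ∀ g : G, commutator G ≤ centralizer ({g} : Set G) := by
    intro g
    refine Core.commutator_le_frattini.trans ?_
    rcases eq_top_or_exists_le_coatom (centralizer ({g} : Set G)) with e | ⟨K, hK, hle⟩
    · rw [e]; exact le_top
    · refine (frattini_le_coatom hK).trans ?_
      have hKi : K.index = r :=
        ((Nat.dvd_prime hr.out).1 ((index_dvd_of_le hle).trans (h g))).resolve_left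
          fun e => hK.1 (index_eq_one.1 e)
      have h1 := relIndex_mul_index hle
      have h2 : (centralizer ({g} : Set G)).index = r :=
        Nat.dvd_antisymm (h g) (hKi ▸ index_dvd_of_le hle)
      rw [hKi, h2] at h1
      exact relIndex_eq_one.1 ((Nat.mul_eq_right hr.out.ne_zero).1 h1)
  have hz : ∀ a b y : G, Commute ⁅a, b⁆ y := fun a b y => by
    have : ⁅a, b⁆ ∈ commutator G := by
      rw [_root_.commutator_def]; exact commutator_mem_commutator (mem_top a) (mem_top b)
    exact mem_centralizer_singleton_iff.1 (hCle y this)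
  have hmul : ∀ a x y : G, ⁅a, x * y⁆ = ⁅a, x⁆ * ⁅a, y⁆ := fun a x y => by
    calc ⁅a, x * y⁆ = ⁅a, x⁆ * (x * ⁅a, y⁆ * x⁻¹) := by rw [commutatorElement_def,
          commutatorElement_def, commutatorElement_def]; group
      _ = _ := by rw [(hz a y x).symm.eq, mul_inv_cancel_right]
  have hmul' : ∀ a x y : G, ⁅x * y, a⁆ = ⁅x, a⁆ * ⁅y, a⁆ := fun a x y => by
    calc ⁅x * y, a⁆ = (x * ⁅y, a⁆ * x⁻¹) * ⁅x, a⁆ := by rw [commutatorElement_def,
          commutatorElement_def, commutatorElement_def]; group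
      _ = ⁅y, a⁆ * ⁅x, a⁆ := by rw [(hz y a x).symm.eq, mul_inv_cancel_right]
      _ = _ := (hz y a _).eq
  let f : G → (G →* G) := fun a =>
    { toFun := fun x => ⁅a, x⁆
      map_one' := commutatorElement_one_right a
      map_mul' := hmul a }
  have hker : ∀ a, (f a).ker = centralizer ({a} : Set G) := fun a => by
    ext x
    rw [MonoidHom.mem_ker, mem_centralizer_singleton_iff]
    show ⁅a, x⁆ = 1 ↔ _
    rw [commutatorElement_eq_one_iff_mul_comm, eq_comm]
  have hrange : ∀ a, Nat.card (f a).range ∣ r := fun a => by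
    rw [← Subgroup.index_ker, hker]; exact h a
  -- two commutators are powers of each other
  have hline : ∀ a b x : G, ⁅a, b⁆ ≠ 1 → ⁅a, x⁆ ∈ zpowers ⁅a, b⁆ := fun a b x hne => by
    have h1 : zpowers ⁅a, b⁆ ≤ (f a).range := zpowers_le.2 ⟨b, rfl⟩
    rw [(subgroup_eq_of_le_of_card h1 hr.out (fun e => hne (zpowers_eq_bot.1 e)) (hrange a)).1]
    exact ⟨x, rfl⟩
  have hline' : ∀ a b x : G, ⁅a, b⁆ ≠ 1 → ⁅x, b⁆ ∈ zpowers ⁅a, b⁆ := fun a b x hne => by
    have hne' : ⁅b, a⁆ ≠ 1 := fun e => hne (by rw [← commutatorElement_inv, e, inv_one])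
    have h1 := hline b a x hne'
    rw [← commutatorElement_inv b x, ← commutatorElement_inv b a, zpowers_inv]
    exact inv_mem h1
  by_cases htriv : ∀ a b : G, ⁅a, b⁆ = 1
  · have : commutator G = ⊥ := by
      rw [eq_bot_iff, _root_.commutator_def, commutator_le]
      exact fun a _ b _ => (mem_bot).2 (htriv a b)
    rw [this, card_bot]; exact one_dvd r
  push Not at htriv
  obtain ⟨a, b, hab⟩ := htriv
  have hord : orderOf ⁅a, b⁆ ∣ r := by
    have hmem : ⁅a, b⁆ ∈ (f a).range := ⟨b, rfl⟩
    exact (orderOf_mk _ hmem ▸ orderOf_dvd_natCard (⟨_, hmem⟩ : (f a).range)).trans (hrange a)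
  have hall : ∀ c d : G, ⁅c, d⁆ ∈ zpowers ⁅a, b⁆ := by
    intro c d
    by_contra hcd
    have hcd1 : ⁅c, d⁆ ≠ 1 := fun e => hcd (e ▸ one_mem _)
    -- distinct lines meet trivially
    have hdisj : ∀ w, w ∈ zpowers ⁅a, b⁆ → w ∈ zpowers ⁅c, d⁆ → w = 1 := by
      intro w hw1 hw2
      by_contra hw
      refine hcd ?_
      have hwne : zpowers w ≠ ⊥ := fun e => hw (zpowers_eq_bot.1 e)
      have h1 : Nat.card (zpowers ⁅c, d⁆) ∣ r :=
        (card_dvd_of_le (zpowers_le.2 ⟨d, rfl⟩ : zpowers ⁅c, d⁆ ≤ (f c).range)).trans (hrange c)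
      have e1 := (subgroup_eq_of_le_of_card (zpowers_le.2 hw2) hr.out hwne h1).1
      have hle : zpowers w ≤ zpowers ⁅a, b⁆ := zpowers_le.2 hw1
      exact hle (e1 ▸ mem_zpowers _)
    have had : ⁅a, d⁆ = 1 := hdisj _ (hline a b d hab) (hline' c d a hcd1)
    have hcb : ⁅c, b⁆ = 1 := hdisj _ (hline' a b c hab) (hline c d b hcd1)
    have h3 : ⁅a * c, b⁆ = ⁅a, b⁆ := by rw [hmul', hcb, mul_one]
    have h4 : ⁅a * c, d⁆ = ⁅c, d⁆ := by rw [hmul', had, one_mul]
    exact hcd (h4 ▸ h3 ▸ hline (a * c) b d (h3 ▸ hab))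
  have hle : commutator G ≤ zpowers ⁅a, b⁆ := by
    rw [_root_.commutator_def, commutator_le]; exact fun c _ d _ => hall c d
  exact (card_dvd_of_le hle).trans (by rw [Nat.card_zpowers]; exact hord)

/-- With trivial `r'`-core, the derived subgroup has order dividing `r`. -/
theorem SQ.card_commutator_of_core [hr : Fact r.Prime] (h : SQ G)
    (hss : Cfsg.IsSupersolvable G) (hO : Cfsg.pPrimeCore r G = ⊥) :
    Nat.card (commutator G) ∣ r := by
  classical
  have hnil := Core.isNilpotent_commutator_of_isSupersolvable hss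
  set R := Cfsg.pCore r G with hRdef
  have hRn : R.Normal := Core.pCore_normal
  have hG'R : commutator G ≤ R := by
    refine (Core.le_fittingSubgroup hnil).trans ?_
    rw [Core.fittingSubgroup_eq_iSup_pCore]
    refine iSup_le fun l => ?_
    have := Fact.mk l.2
    by_cases hl : (l : ℕ) = r
    · rw [hl]
    · exact (Core.pCore_le_pPrimeCore hl).trans (hO.le.trans bot_le)
  obtain ⟨S⟩ := (inferInstance : Nonempty (Sylow r G))
  have hRS : R = S := by
    refine le_antisymm (Core.pCore_le_sylow S) ?_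
    have : (S : Subgroup G).Normal :=
      Subgroup.Normal.of_commutator_le (G := G) (hG'R.trans (Core.pCore_le_sylow S) : commutator G ≤ (S : Subgroup G))
    exact Core.le_pCore S.isPGroup'
  have hRp : IsPGroup r R := Core.pCore_isPGroup
  have hrel : ∀ g : G, (centralizer ({g} : Set G)).relIndex R ∣ r := fun g => by
    obtain ⟨n, hn⟩ := IsPGroup.iff_card.1 hRp
    exact card_dvd_of_squarefree hr.out (k := n)
      (hn ▸ index_dvd_card ((centralizer ({g} : Set G)).subgroupOf R))
      (QBaer.relIndex_dvd_index_normal' _ R) (h g)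
  have hcopR : (Nat.card R).Coprime R.index := by
    rw [hRS]; exact S.card_coprime_index
  obtain ⟨A, hA⟩ := exists_right_complement'_of_coprime hcopR
  have hAcard : Nat.card A = R.index := hA.symm.index_eq_card.symm
  have hsplit : ∀ g : G, ∃ x ∈ R, ∃ a ∈ A, g = x * a := fun g => by
    obtain ⟨⟨⟨x, hx⟩, ⟨a, ha⟩⟩, e, -⟩ := isComplement_iff_existsUnique.1 hA g
    exact ⟨x, hx, a, ha, e.symm⟩
  have hAcomm : ∀ a ∈ A, ∀ b ∈ A, a * b = b * a := fun a ha b hb => by
    rw [← commutatorElement_eq_one_iff_mul_comm]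
    have h1 : ⁅a, b⁆ ∈ R := hG'R (by
      rw [_root_.commutator_def]; exact commutator_mem_commutator (mem_top a) (mem_top b))
    have h2 : ⁅a, b⁆ ∈ A := by
      rw [commutatorElement_def]; exact mul_mem (mul_mem (mul_mem ha hb) (inv_mem ha)) (inv_mem hb)
    exact (mem_bot).1 (hA.disjoint.le_bot ⟨h1, h2⟩)
  by_cases hAbot : A = ⊥
  · have hRtop : R = ⊤ := by
      rw [← index_eq_one, ← hAcard, hAbot, card_bot]
    have hGp : IsPGroup r G := fun g => by
      obtain ⟨n, hn⟩ := hRp ⟨g, hRtop ▸ mem_top g⟩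
      exact ⟨n, congrArg Subtype.val hn⟩
    exact card_commutator_dvd hGp fun g => by
      have := hrel g
      rwa [hRtop, relIndex_top_right] at this
  have hcopA : ∀ a ∈ A, (orderOf a).Coprime (Nat.card R) := fun a ha =>
    (hAcard.symm ▸ hcopR : (Nat.card R).Coprime (Nat.card A)).symm.coprime_dvd_left
      (orderOf_mk a ha ▸ orderOf_dvd_natCard (⟨a, ha⟩ : A))
  -- `A` acts faithfully
  have hfaith : ∀ a ∈ A, (∀ x ∈ R, a * x = x * a) → a = 1 := by
    set K := A ⊓ centralizer (R : Set G) with hK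
    have hKn : K.Normal := ⟨fun k hk g => by
      obtain ⟨x, hx, a, ha, rfl⟩ := hsplit g
      have e1 : a * k * a⁻¹ = k := by rw [hAcomm a ha k hk.1, mul_inv_cancel_right]
      have e2 : x * k * x⁻¹ = k := by rw [(mem_centralizer_iff.1 hk.2 x hx), mul_inv_cancel_right]
      have e : x * a * k * (x * a)⁻¹ = k := by
        calc x * a * k * (x * a)⁻¹ = x * (a * k * a⁻¹) * x⁻¹ := by group
          _ = _ := by rw [e1, e2]
      rw [e]; exact hk⟩
    have hKbot : K ≤ ⊥ := hO ▸ Core.le_pPrimeCore (by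
      refine Nat.Coprime.coprime_dvd_left (card_dvd_of_le inf_le_left) ?_
      rw [hAcard, hRS]
      exact (hr.out.coprime_iff_not_dvd.2 S.not_dvd_index).symm)
    intro a ha hax
    exact mem_bot.1 (hKbot ⟨ha, mem_centralizer_iff.2 fun x hx => (hax x hx).symm⟩)
  -- `R` is abelian
  have hRab : ∀ x ∈ R, ∀ y ∈ R, x * y = y * x := by
    obtain ⟨a, ha, ha1⟩ : ∃ a ∈ A, a ≠ 1 := by
      by_contra hc
      push Not at hc
      exact hAbot ((eq_bot_iff_forall A).2 hc)
    set C := centralizer ({a} : Set G) ⊓ R with hC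
    have hCi : C.relIndex R = r := by
      rw [hC, inf_relIndex_right]
      refine ((Nat.dvd_prime hr.out).1 (hrel a)).resolve_left fun e => ha1 (hfaith a ha fun x hx => ?_)
      exact (mem_centralizer_singleton_iff.1 (relIndex_eq_one.1 e hx)).symm
    obtain ⟨x, hx, hxC⟩ : ∃ x ∈ R, x ∉ C := by
      by_contra hc
      push Not at hc
      exact hr.out.one_lt.ne' (hCi ▸ relIndex_eq_one.2 hc)
    have hCn : ∀ c ∈ C, x * c * x⁻¹ ∈ C := by
      have : (C.subgroupOf R).Normal := by
        refine Subgroup.normal_of_index_eq_minFac_card ?_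
        obtain ⟨n, hn⟩ := IsPGroup.iff_card.1 hRp
        have hn0 : n ≠ 0 := fun e => hxC (by
          rw [e, pow_zero, card_eq_one] at hn
          rw [show x = 1 from mem_bot.1 (hn ▸ hx)]; exact one_mem _)
        rw [hn, hr.out.pow_minFac hn0]
        exact hCi
      intro c hc
      exact mem_subgroupOf.1 (this.conj_mem ⟨c, hc.2⟩ (mem_subgroupOf.2 hc) ⟨x, hx⟩)
    set k := x⁻¹ * (a * x * a⁻¹) with hk
    have hkR : k ∈ R := mul_mem (inv_mem hx) (hRn.conj_mem x hx a)
    have hkc : ∀ c ∈ C, k * c = c * k := by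
      intro c hc
      have h1 : a * c * a⁻¹ = c :=
        mul_inv_eq_iff_eq_mul.2 (mem_centralizer_singleton_iff.1 hc.1).symm
      have h2 : a * (x * c * x⁻¹) * a⁻¹ = x * c * x⁻¹ :=
        mul_inv_eq_iff_eq_mul.2 (mem_centralizer_singleton_iff.1 (hCn c hc).1).symm
      calc k * c = x⁻¹ * (a * x * a⁻¹ * (a * c * a⁻¹)) := by rw [h1, hk]; group
        _ = x⁻¹ * (a * (x * c * x⁻¹) * a⁻¹) * (a * x * a⁻¹) := by group
        _ = _ := by rw [h2, hk]; group
    have hkC : k ∉ C := by
      intro hkC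
      have hak : a * k * a⁻¹ = k :=
        mul_inv_eq_iff_eq_mul.2 (mem_centralizer_singleton_iff.1 hkC.1).symm
      have hpow : ∀ n : ℕ, a ^ n * x * (a ^ n)⁻¹ = x * k ^ n := by
        intro n
        induction n with
        | zero => simp
        | succ n ih =>
          have hakn : a * k ^ n * a⁻¹ = k ^ n := by rw [← conj_pow, hak]
          calc a ^ (n + 1) * x * (a ^ (n + 1))⁻¹ = a * (a ^ n * x * (a ^ n)⁻¹) * a⁻¹ := by
                rw [pow_succ']; group
            _ = (a * x * a⁻¹) * (a * k ^ n * a⁻¹) := by rw [ih]; group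
            _ = a * x * a⁻¹ * k ^ n := by rw [hakn]
            _ = x * (k * k ^ n) := by nth_rewrite 2 [hk]; group
            _ = _ := by rw [← pow_succ']
      have h0 := hpow (orderOf a)
      rw [pow_orderOf_eq_one, one_mul, inv_one, mul_one, eq_comm, mul_eq_left] at h0
      have h1 : orderOf k ∣ Nat.gcd (orderOf a) (Nat.card R) :=
        Nat.dvd_gcd (orderOf_dvd_of_pow_eq_one h0)
          (orderOf_mk k hkR ▸ orderOf_dvd_natCard (⟨k, hkR⟩ : R))
      rw [(hcopA a ha).gcd_eq_one, Nat.dvd_one, orderOf_eq_one_iff, hk, inv_mul_eq_one] at h1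
      exact hxC ⟨mem_centralizer_singleton_iff.2 (mul_inv_eq_iff_eq_mul.1 h1.symm).symm, hx⟩
    by_cases hCab : ∀ c ∈ C, ∀ d ∈ C, c * d = d * c
    · -- `R` is generated by `C` and `k`
      set W := closure (insert k (C : Set G)) with hW
      have hWR : R ≤ W := by
        have hCW : C ≤ W := fun c hc => subset_closure (Set.mem_insert_of_mem _ hc)
        have h1 : C.relIndex (W ⊓ R) * (W ⊓ R).relIndex R = r := by
          rw [relIndex_mul_relIndex _ _ _ (le_inf hCW inf_le_right) inf_le_right, hCi]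
        rcases (Nat.dvd_prime hr.out).1 ⟨_, h1.symm⟩ with e | e
        · exact absurd (relIndex_eq_one.1 e ⟨subset_closure (Set.mem_insert _ _), hkR⟩) hkC
        · rw [e, Nat.mul_eq_left hr.out.ne_zero, inf_relIndex_right, relIndex_eq_one] at h1
          exact h1
      have hWab : ∀ u ∈ W, ∀ v ∈ W, u * v = v * u := by
        have hgen : ∀ u ∈ insert k (C : Set G), ∀ v ∈ insert k (C : Set G), u * v = v * u := by
          rintro u (rfl | hu) v (rfl | hv)
          · rfl
          · exact hkc v hv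
          · exact (hkc u hu).symm
          · exact hCab u hu v hv
        have hle : W ≤ centralizer (W : Set G) := by
          rw [hW, closure_le]
          intro u hu
          have h2 : W ≤ centralizer ({u} : Set G) := by
            rw [hW, closure_le]
            exact fun v hv => mem_centralizer_singleton_iff.2 (hgen v hv u hu)
          exact mem_centralizer_iff.2 fun v hv => mem_centralizer_singleton_iff.1 (h2 hv)
        exact fun u hu v hv => (mem_centralizer_iff.1 (hle hu) v hv).symm
      exact fun u hu v hv => hWab u (hWR hu) v (hWR hv)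
    · exfalso
      push Not at hCab
      obtain ⟨c, hc, d, hd, hcd⟩ := hCab
      have hca : Commute a c := (mem_centralizer_singleton_iff.1 hc.1).symm
      have hoc : (orderOf a).Coprime (orderOf c) := (hcopA a ha).coprime_dvd_right
        (orderOf_mk c hc.2 ▸ orderOf_dvd_natCard (⟨c, hc.2⟩ : R))
      have hle : centralizer ({a * c} : Set G) ≤
          centralizer ({a} : Set G) ⊓ centralizer ({c} : Set G) := by
        intro g hg
        have hg' : Commute g (a * c) := mem_centralizer_singleton_iff.1 hg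
        have key : ∀ u v : G, Commute u v → (orderOf u).Coprime (orderOf v) →
            Commute g (u * v) → Commute g u := by
          intro u v huv hco hgu
          obtain ⟨m, hm⟩ := exists_pow_eq_self_of_coprime hco.symm
          have h1 := hgu.pow_right (orderOf v)
          rw [huv.mul_pow, pow_orderOf_eq_one, mul_one] at h1
          have h2 := h1.pow_right m
          rwa [hm] at h2
        exact mem_inf.2 ⟨mem_centralizer_singleton_iff.2 (key a c hca hoc hg').eq,
          mem_centralizer_singleton_iff.2 (key c a hca.symm hoc.symm (hca.eq ▸ hg')).eq⟩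
      set C2 := centralizer ({a * c} : Set G) ⊓ R with hC2
      have hC2C : C2 ≤ C := fun g hg => ⟨(hle hg.1).1, hg.2⟩
      have h1 := relIndex_mul_relIndex C2 C R hC2C inf_le_right
      have h2 : C2.relIndex R ∣ r := by rw [hC2, inf_relIndex_right]; exact hrel _
      rw [hCi] at h1
      have h3 : C2.relIndex C = 1 := by
        rw [← h1] at h2
        rcases (Nat.dvd_prime hr.out).1 h2 with e | e
        · exact absurd (Nat.eq_one_of_mul_eq_one_left e) hr.out.one_lt.ne'
        · exact (Nat.mul_eq_right hr.out.ne_zero).1 e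
      exact hcd (mem_centralizer_singleton_iff.1 (hle (relIndex_eq_one.1 h3 hd).1).2).symm
  -- all the groups `[R, a]` coincide
  have hrange : ∀ g, Nat.card (dmap R hRab g).range ∣ r := fun g => by
    rw [card_dmap_range]; exact hrel g
  have hne1 : ∀ a ∈ A, a ≠ 1 → (dmap R hRab a).range ≠ ⊥ := fun a ha ha1 e => ha1 (hfaith a ha fun x hx => by
    have : dmap R hRab a ⟨x, hx⟩ = 1 := mem_bot.1 (e ▸ ⟨⟨x, hx⟩, rfl⟩)
    rw [dmap_apply, mul_inv_eq_one] at this
    exact mul_inv_eq_iff_eq_mul.1 this)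
  have hfpf : ∀ a ∈ A, ∀ d, d ∈ (dmap R hRab a).range → a * d * a⁻¹ = d → d = 1 := by
    rintro a ha _ ⟨x, rfl⟩ hd
    set d := dmap R hRab a x with hdd
    have hpow : ∀ n : ℕ, a ^ n * x * (a ^ n)⁻¹ = d ^ n * x := by
      intro n
      induction n with
      | zero => simp
      | succ n ih =>
        calc a ^ (n + 1) * x * (a ^ (n + 1))⁻¹ = a * (a ^ n * x * (a ^ n)⁻¹) * a⁻¹ := by
              rw [pow_succ']; group
          _ = (a * d ^ n * a⁻¹) * (a * x * a⁻¹ * (x : G)⁻¹) * x := by rw [ih]; group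
          _ = _ := by rw [← conj_pow, hd, ← dmap_apply (hab := hRab), ← hdd, ← pow_succ]
    have h0 := hpow (orderOf a)
    rw [pow_orderOf_eq_one, one_mul, inv_one, mul_one, right_eq_mul] at h0
    have hdR : d ∈ R := dmap_range_le a ⟨x, rfl⟩
    have h1 : orderOf d ∣ Nat.gcd (orderOf a) (Nat.card R) :=
      Nat.dvd_gcd (orderOf_dvd_of_pow_eq_one h0)
        (orderOf_mk d hdR ▸ orderOf_dvd_natCard (⟨d, hdR⟩ : R))
    rwa [(hcopA a ha).gcd_eq_one, Nat.dvd_one, orderOf_eq_one_iff] at h1
  have hinv : ∀ a ∈ A, ∀ b ∈ A, ∀ d ∈ (dmap R hRab a).range,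
      b * d * b⁻¹ ∈ (dmap R hRab a).range := by
    rintro a ha b hb _ ⟨x, rfl⟩
    refine ⟨⟨b * x * b⁻¹, hRn.conj_mem _ x.2 b⟩, ?_⟩
    simp only [dmap_apply]
    calc a * (b * x * b⁻¹) * a⁻¹ * (b * (x : G) * b⁻¹)⁻¹
        = (a * b) * x * (a * b)⁻¹ * (b * (x : G) * b⁻¹)⁻¹ := by group
      _ = _ := by rw [hAcomm a ha b hb]; group
  obtain ⟨a0, ha0, ha01⟩ : ∃ a ∈ A, a ≠ 1 := by
    by_contra hc
    push Not at hc
    exact hAbot ((eq_bot_iff_forall A).2 hc)
  set D := (dmap R hRab a0).range with hD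
  have hall : ∀ a ∈ A, (dmap R hRab a).range ≤ D := by
    intro a ha
    rcases eq_or_ne a 1 with rfl | ha1
    · rintro _ ⟨x, rfl⟩
      rw [show dmap R hRab 1 x = 1 by simp]
      exact one_mem _
    by_contra hne
    set E := (dmap R hRab a).range with hE
    have hDE : ∀ w, w ∈ D → w ∈ E → w = 1 := by
      intro w hw hw'
      by_contra hw1
      have hz : zpowers w ≠ ⊥ := fun e => hw1 (zpowers_eq_bot.1 e)
      have e1 := (subgroup_eq_of_le_of_card (zpowers_le.2 hw) hr.out hz (hrange a0)).1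
      have e2 := (subgroup_eq_of_le_of_card (zpowers_le.2 hw') hr.out hz (hrange a)).1
      exact hne (e2.symm.trans e1).le
    have key : ∀ u ∈ A, ∀ v ∈ A, u ≠ 1 →
        (∀ w, w ∈ (dmap R hRab u).range → w ∈ (dmap R hRab v).range → w = 1) →
        (dmap R hRab u).range = (dmap R hRab (u * v)).range := by
      intro u hu v hv hu1 hdis
      obtain ⟨d, hd, hd1⟩ : ∃ d ∈ (dmap R hRab u).range, d ≠ 1 := by
        by_contra hc
        push Not at hc
        exact hne1 u hu hu1 ((eq_bot_iff_forall _).2 hc)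
      have hdR : d ∈ R := dmap_range_le u hd
      have hvd : v * d * v⁻¹ = d := mul_inv_eq_one.1
        (hdis _ (mul_mem (hinv u hu v hv d hd) (inv_mem hd)) ⟨⟨d, hdR⟩, rfl⟩)
      have hnz : u * d * u⁻¹ * d⁻¹ ≠ 1 := fun e => hd1 (hfpf u hu d hd (mul_inv_eq_one.1 e))
      have hz : zpowers (u * d * u⁻¹ * d⁻¹) ≠ ⊥ := fun e => hnz (zpowers_eq_bot.1 e)
      have m1 : zpowers (u * d * u⁻¹ * d⁻¹) ≤ (dmap R hRab u).range :=
        zpowers_le.2 ⟨⟨d, hdR⟩, rfl⟩
      have m2 : zpowers (u * d * u⁻¹ * d⁻¹) ≤ (dmap R hRab (u * v)).range := by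
        refine zpowers_le.2 ⟨⟨d, hdR⟩, ?_⟩
        calc u * v * d * (u * v)⁻¹ * d⁻¹ = u * (v * d * v⁻¹) * u⁻¹ * d⁻¹ := by group
          _ = _ := by rw [hvd]
      exact ((subgroup_eq_of_le_of_card m1 hr.out hz (hrange u)).1).symm.trans
        (subgroup_eq_of_le_of_card m2 hr.out hz (hrange _)).1
    have h1 := key a0 ha0 a ha ha01 hDE
    have h2 := key a ha a0 ha0 ha1 fun w hw hw' => hDE w hw' hw
    rw [hAcomm a ha a0 ha0] at h2
    exact hne (h2.trans h1.symm).le
  have hDn : D.Normal := ⟨fun d hd g => by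
    obtain ⟨x, hx, a, ha, rfl⟩ := hsplit g
    have e : x * a * d * (x * a)⁻¹ = x * (a * d * a⁻¹) * x⁻¹ := by group
    have h1 := hinv a0 ha0 a ha d hd
    rw [e, hRab x hx _ (dmap_range_le a0 h1), mul_inv_cancel_right]
    exact h1⟩
  have hmod : ∀ g h : G, ((g * h : G) : G ⧸ D) = ((h * g : G) : G ⧸ D) := by
    have hRA : ∀ x ∈ R, ∀ a ∈ A, Commute ((x : G) : G ⧸ D) (a : G ⧸ D) := by
      intro x hx a ha
      have h1 : a * x * a⁻¹ * x⁻¹ ∈ D := hall a ha ⟨⟨x, hx⟩, rfl⟩
      refine Commute.symm ?_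
      show (QuotientGroup.mk' D a) * QuotientGroup.mk' D x = QuotientGroup.mk' D x * QuotientGroup.mk' D a
      rw [← mul_inv_eq_one, ← map_mul, ← map_mul, ← map_inv, ← map_mul, QuotientGroup.mk'_apply,
        QuotientGroup.eq_one_iff, mul_inv_rev]
      simpa [mul_assoc] using h1
    intro g h
    obtain ⟨x, hx, a, ha, rfl⟩ := hsplit g
    obtain ⟨y, hy, b, hb, rfl⟩ := hsplit h
    rw [QuotientGroup.mk_mul, QuotientGroup.mk_mul, QuotientGroup.mk_mul, QuotientGroup.mk_mul]
    have c1 : Commute ((x : G) : G ⧸ D) (y : G ⧸ D) := by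
      show ((x : G) : G ⧸ D) * y = y * x
      rw [← QuotientGroup.mk_mul, ← QuotientGroup.mk_mul, hRab x hx y hy]
    have c2 : Commute ((a : G) : G ⧸ D) (b : G ⧸ D) := by
      show ((a : G) : G ⧸ D) * b = b * a
      rw [← QuotientGroup.mk_mul, ← QuotientGroup.mk_mul, hAcomm a ha b hb]
    exact ((c1.mul_right (hRA x hx b hb)).mul_left (((hRA y hy a ha).symm).mul_right c2)).eq
  have hle : commutator G ≤ D := by
    rw [_root_.commutator_def, commutator_le]
    intro g _ h _
    rw [← QuotientGroup.eq_one_iff, commutatorElement_def, QuotientGroup.mk_mul, QuotientGroup.mk_mul,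
      QuotientGroup.mk_inv, QuotientGroup.mk_inv]
    rw [QuotientGroup.mk_mul]
    have := hmod g h
    rw [QuotientGroup.mk_mul, QuotientGroup.mk_mul] at this
    rw [this]
    group
  exact (card_dvd_of_le hle).trans (hrange a0)

theorem SQ.squarefree_card_commutator (h : SQ G) : Squarefree (Nat.card (commutator G)) := by
  rw [Nat.squarefree_iff_prime_squarefree]
  intro r hr hd
  have := Fact.mk hr
  rw [← sq] at hd
  set M := Cfsg.pPrimeCore r G with hM
  have hMn : M.Normal := Core.pPrimeCore_normal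
  have hsur := QuotientGroup.mk'_surjective M
  have h1 := (h.map hsur).card_commutator_of_core (r := r)
    (isSupersolvable_of_sq _ _ rfl (h.map hsur)) Core.pPrimeCore_quotient_eq_bot
  have h2 : (commutator G).map (QuotientGroup.mk' M) = commutator (G ⧸ M) := by
    rw [_root_.commutator_def, _root_.commutator_def, map_commutator,
      map_top_of_surjective _ hsur]
  have h3 := relIndex_mul_relIndex (⊥ : Subgroup G) (M ⊓ commutator G) (commutator G) bot_le inf_le_right
  rw [relIndex_bot_left, relIndex_bot_left, inf_relIndex_right] at h3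
  have h4 : M.relIndex (commutator G) = Nat.card (commutator (G ⧸ M)) := by
    conv_lhs => rw [← QuotientGroup.ker_mk' M]
    rw [relIndex_ker, h2]
  have h5 : r ^ 2 ∣ M.relIndex (commutator G) :=
    (Nat.Coprime.pow_left 2 (Nat.Coprime.coprime_dvd_right (card_dvd_of_le inf_le_left)
      (Core.coprime_card_pPrimeCore (G := G) (p := r)).symm)).dvd_of_dvd_mul_left (h3 ▸ hd)
  exact hr.not_isUnit ((Irreducible.squarefree hr) r (by rw [← sq]; exact h5.trans (h4 ▸ h1)))

theorem SQ.isCyclic_commutator (h : SQ G) : IsCyclic (commutator G) := by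
  have := IsZGroup.of_squarefree h.squarefree_card_commutator
  have := Core.isNilpotent_commutator_of_isSupersolvable (isSupersolvable_of_sq _ G rfl h)
  infer_instance

/-- The Fitting subgroup is the centraliser of the derived subgroup. -/
theorem SQ.fitting_eq (h : SQ G) :
    Cfsg.fittingSubgroup G = centralizer ((commutator G : Subgroup G) : Set G) := by
  classical
  have hcyc := h.isCyclic_commutator
  have hsq := h.squarefree_card_commutator
  set F := Cfsg.fittingSubgroup G with hF
  set G' := commutator G with hG'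
  have hG'F : G' ≤ F := by
    have : IsMulCommutative G' := inferInstance
    exact Core.le_fittingSubgroup_of_isMulCommutative
  refine le_antisymm (Subgroup.le_centralizer_iff.2 ?_) ?_
  · refine TwoClassSizes.le_of_primePow_mem fun d hd r hr ⟨k, hk⟩ => ?_
    have := Fact.mk hr
    rcases eq_or_ne d 1 with rfl | hd1
    · exact one_mem _
    have hod : orderOf d = r := by
      obtain ⟨j, -, hj⟩ := (Nat.dvd_prime_pow hr).1 hk
      have h2 : orderOf d ∣ r := card_dvd_of_squarefree hr (k := k) hk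
        (orderOf_mk d hd ▸ orderOf_dvd_natCard (⟨d, hd⟩ : G')) hsq
      exact ((Nat.dvd_prime hr).1 h2).resolve_left fun e => hd1 (orderOf_eq_one_iff.1 e)
    -- `⟨d⟩` is normal
    have huniq : ∀ e ∈ G', orderOf e = r → e ∈ zpowers d := by
      intro e he hoe
      have hnorm : zpowers e ≤ normalizer ((zpowers d : Subgroup G) : Set G) := by
        refine zpowers_le.2 ((mem_centralizer_iff.2 ?_ : e ∈ centralizer ((zpowers d : Subgroup G) : Set G)) |> fun h => centralizer_le_normalizer _ h)
        intro y hy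
        exact congrArg Subtype.val
          (IsMulCommutative.is_comm.comm (⟨y, (zpowers_le.2 hd) hy⟩ : G') ⟨e, he⟩)
      have h1 : IsPGroup r (zpowers d ⊔ zpowers e : Subgroup G) :=
        IsPGroup.to_sup_of_normal_left' (IsPGroup.of_card (n := 1) (by rw [Nat.card_zpowers, hod, pow_one]))
          (IsPGroup.of_card (n := 1) (by rw [Nat.card_zpowers, hoe, pow_one])) hnorm
      obtain ⟨n, hn⟩ := IsPGroup.iff_card.1 h1
      have h2 : Nat.card (zpowers d ⊔ zpowers e : Subgroup G) ∣ r :=
        card_dvd_of_squarefree hr (k := n) hn.dvd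
          (card_dvd_of_le (sup_le (zpowers_le.2 hd) (zpowers_le.2 he))) hsq
      rw [(subgroup_eq_of_le_of_card le_sup_left hr (fun e => hd1 (zpowers_eq_bot.1 e)) h2).1]
      exact mem_sup_right (mem_zpowers e)
    have hzn : ∀ g : G, g * d * g⁻¹ ∈ zpowers d := fun g =>
      huniq _ ((inferInstance : (commutator G).Normal).conj_mem d hd g)
        (by rw [← MulAut.conj_apply, MulEquiv.orderOf_eq, hod])
    have := Core.fittingSubgroup_isNilpotent (G := G)
    set Z := (zpowers d).subgroupOf F with hZ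
    have hZn : Z.Normal := ⟨fun z hz g => by
      obtain ⟨i, hi⟩ := mem_zpowers_iff.1 (mem_subgroupOf.1 hz)
      refine mem_subgroupOf.2 ?_
      show (g : G) * z * (g : G)⁻¹ ∈ zpowers d
      rw [← hi, ← conj_zpow]
      exact zpow_mem (hzn g) i⟩
    have hdZ : (⟨d, hG'F hd⟩ : F) ∈ Z := mem_subgroupOf.2 (mem_zpowers d)
    have hZne : Z ≠ ⊥ := fun e => by
      rw [e, mem_bot, Subtype.ext_iff] at hdZ
      exact hd1 hdZ
    obtain ⟨z, hz, hz1⟩ : ∃ z ∈ Z ⊓ center F, z ≠ 1 := by
      by_contra hc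
      push Not at hc
      exact Core.inf_center_ne_bot hZne ((eq_bot_iff_forall _).2 hc)
    have hzz : zpowers (z : G) = zpowers d :=
      (subgroup_eq_of_le_of_card (zpowers_le.2 (mem_subgroupOf.1 hz.1)) hr
        (fun e => hz1 (Subtype.ext (zpowers_eq_bot.1 e))) (by rw [Nat.card_zpowers, hod])).1
    obtain ⟨i, hi⟩ := mem_zpowers_iff.1 (hzz ▸ mem_zpowers d : d ∈ zpowers (z : G))
    refine mem_centralizer_iff.2 fun f hf => ?_
    have hc : Commute f (z : G) := congrArg Subtype.val (mem_center_iff.1 hz.2 ⟨f, hf⟩)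
    rw [← hi]
    exact hc.zpow_right i
  · have : (centralizer ((G' : Subgroup G) : Set G)).Normal := inferInstance
    refine Core.le_fittingSubgroup ?_
    set K := centralizer ((G' : Subgroup G) : Set G) with hK
    refine Subgroup.nilpotent_iff_lowerCentralSeries.2 ⟨2, ?_⟩
    rw [eq_bot_iff]
    have h1 : Subgroup.lowerCentralSeries (⊤ : Subgroup K) 1 ≤ center K := by
      show ⁅(⊤ : Subgroup K), ⊤⁆ ≤ center K
      rw [commutator_le]
      intro a _ b _
      refine mem_center_iff.2 fun c => Subtype.ext ?_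
      have hm : ((⁅a, b⁆ : K) : G) ∈ G' := by
        show ⁅(a : G), (b : G)⁆ ∈ commutator G
        rw [_root_.commutator_def]; exact commutator_mem_commutator (mem_top _) (mem_top _)
      exact (mem_centralizer_iff.1 c.2 _ hm).symm
    refine (commutator_mono h1 le_rfl).trans ?_
    rw [commutator_le]
    intro a ha b _
    rw [mem_bot, commutatorElement_eq_one_iff_mul_comm]
    exact (mem_center_iff.1 ha b).symm

end Cfsg.Agent.SqClass
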