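import Cfsg.Agent.SqClass.Simple
import Cfsg.Agent.Core.Supersolvable
import Cfsg.Agent.Core.MinimalNormal
import Cfsg.Agent.Core.Fitting

/-!
# Groups with square-free class sizes are supersolvable
-/

set_option autoImplicit false

namespace Cfsg.Agent.SqClass

open Subgroup
open scoped commutatorElement

universe u

variable {G : Type u} [Group G] [Finite G]

/-- All class sizes are square-free. -/
def SQ (G : Type u) [Group G] : Prop :=
  ∀ x : G, Squarefree (centralizer ({x} : Set G)).index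

theorem SQ.map (h : SQ G) {G' : Type u} [Group G'] [Finite G'] {f : G →* G'}
    (hf : Function.Surjective f) : SQ G' := by
  intro y
  obtain ⟨x, rfl⟩ := hf y
  exact (h x).squarefree_of_dvd (QBaer.index_centralizer_map hf x)

theorem SQ.normal (h : SQ G) (N : Subgroup G) [N.Normal] : SQ N := by
  intro x
  have e : centralizer ({x} : Set N) = (centralizer ({(x : G)} : Set G)).subgroupOf N := by
    ext n
    simp only [mem_subgroupOf, mem_centralizer_singleton_iff]
    exact Subtype.ext_iff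
  rw [e]
  exact (h x).squarefree_of_dvd (QBaer.relIndex_dvd_index_normal' _ N)

theorem isSolvable_of_sq : ∀ (n : ℕ) (G : Type u) [Group G] [Finite G],
    Nat.card G = n → SQ G → Group.IsSolvable G := by
  intro n
  induction n using Nat.strong_induction_on with
  | _ n ih =>
    intro G _ _ hn h
    rcases subsingleton_or_nontrivial G with hs | hs
    · infer_instance
    by_cases hN : ∃ N : Subgroup G, N.Normal ∧ N ≠ ⊥ ∧ N ≠ ⊤
    · obtain ⟨N, hNn, hb, ht⟩ := hN
      have h1 : Nat.card N < n := by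
        refine lt_of_le_of_ne (hn ▸ Nat.le_of_dvd Nat.card_pos (card_subgroup_dvd_card N)) ?_
        intro e; exact ht (eq_top_of_card_eq N (e.trans hn.symm))
      have h2 : Nat.card (G ⧸ N) < n := hn ▸ Core.card_quotient_lt hb
      have s1 := ih _ h1 N rfl (h.normal N)
      have s2 := ih _ h2 (G ⧸ N) rfl (h.map (QuotientGroup.mk'_surjective N))
      exact Group.isSolvable_of_ker_le_range N.subtype (QuotientGroup.mk' N)
        (by rw [QuotientGroup.ker_mk', range_subtype])
    · push Not at hN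
      have : IsSimpleGroup G := ⟨fun H hH => or_iff_not_imp_left.2 fun hb => hN H hH hb⟩
      by_cases hna : ∃ a b : G, a * b ≠ b * a
      · have h2 : 1 < Nat.card G := Finite.one_lt_card
        have := Fact.mk (Nat.minFac_prime h2.ne')
        obtain ⟨g, hg⟩ := exists_sq_dvd_index (p := (Nat.card G).minFac) hna (Nat.minFac_dvd _)
          fun r hr hrd => Nat.minFac_le_of_dvd hr.two_le hrd
        have := (Nat.squarefree_iff_prime_squarefree.1 (h g)) _ (Nat.minFac_prime h2.ne')
        rw [← sq] at this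
        exact absurd hg this
      · push Not at hna
        exact Group.isSolvable_of_comm hna

/-- The commutator map with an element of `G` on an abelian normal subgroup. -/
def dmap (N : Subgroup G) [hN : N.Normal] (hab : ∀ a ∈ N, ∀ b ∈ N, a * b = b * a) (g : G) :
    N →* G where
  toFun x := g * x * g⁻¹ * (x : G)⁻¹
  map_one' := by simp
  map_mul' x y := by
    have h1 := hab _ (mul_mem (hN.conj_mem _ y.2 g) (inv_mem y.2)) _ (inv_mem x.2)
    calc g * ((x : G) * y) * g⁻¹ * ((x : G) * y)⁻¹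
        = g * x * g⁻¹ * ((g * y * g⁻¹ * (y : G)⁻¹) * (x : G)⁻¹) := by group
      _ = g * x * g⁻¹ * ((x : G)⁻¹ * (g * y * g⁻¹ * (y : G)⁻¹)) := by rw [h1]
      _ = _ := by group

variable {N : Subgroup G} [hN : N.Normal] {hab : ∀ a ∈ N, ∀ b ∈ N, a * b = b * a}

@[simp] theorem dmap_apply (g : G) (x : N) : dmap N hab g x = g * x * g⁻¹ * (x : G)⁻¹ := rfl

theorem dmap_range_le (g : G) : (dmap N hab g).range ≤ N := by
  rintro _ ⟨x, rfl⟩
  exact mul_mem (hN.conj_mem _ x.2 g) (inv_mem x.2)

theorem dmap_eq_one_iff {g : G} {x : N} :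
    dmap N hab g x = 1 ↔ x ∈ (centralizer ({g} : Set G)).subgroupOf N := by
  rw [mem_subgroupOf, mem_centralizer_singleton_iff, dmap_apply, mul_inv_eq_one,
    mul_inv_eq_iff_eq_mul, eq_comm]

theorem dmap_ker (g : G) :
    (dmap N hab g).ker = (centralizer ({g} : Set G)).subgroupOf N := by
  ext x; rw [MonoidHom.mem_ker, dmap_eq_one_iff]

theorem card_dmap_range (g : G) :
    Nat.card (dmap N hab g).range = (centralizer ({g} : Set G)).relIndex N := by
  rw [← Subgroup.index_ker, dmap_ker]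
  rfl

theorem card_dvd_of_squarefree {r : ℕ} (hr : r.Prime) {m k : ℕ} (h1 : m ∣ r ^ k) {i : ℕ}
    (h2 : m ∣ i) (hi : Squarefree i) : m ∣ r := by
  obtain ⟨j, -, rfl⟩ := (Nat.dvd_prime_pow hr).1 h1
  rcases Nat.lt_or_ge j 2 with hj | hj
  · exact (pow_dvd_pow r (by omega : j ≤ 1)).trans (pow_one r).dvd
  · exact absurd (hi r (((sq r).symm.dvd).trans ((pow_dvd_pow r hj).trans h2))) hr.not_isUnit

theorem subgroup_eq_of_le_of_card {H K : Subgroup G} (h : H ≤ K) {r : ℕ} (hr : r.Prime)
    (hH : H ≠ ⊥) (hK : Nat.card K ∣ r) : H = K ∧ Nat.card H = r := by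
  have h1 : Nat.card H ∣ Nat.card K := card_dvd_of_le h
  have h2 : Nat.card H = r := ((Nat.dvd_prime hr).1 (h1.trans hK)).resolve_left
    fun e => hH (card_eq_one.1 e)
  exact ⟨eq_of_le_of_card_ge h (h2 ▸ Nat.le_of_dvd hr.pos hK), h2⟩

/-- A minimal normal subgroup of a solvable group with square-free class sizes has prime order. -/
theorem SQ.card_prime [Group.IsSolvable G] (h : SQ G) (hM : Core.IsMinNormal N) :
    (Nat.card N).Prime := by
  classical
  have := hM.isMulCommutative
  obtain ⟨r, hr, hexp⟩ := hM.exists_prime_pow_eq_one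
  have hab : ∀ a ∈ N, ∀ b ∈ N, a * b = b * a := fun a ha b hb =>
    congrArg Subtype.val (IsMulCommutative.is_comm.comm (⟨a, ha⟩ : N) ⟨b, hb⟩)
  have := Fact.mk hr
  have hNp : IsPGroup r N := fun x => ⟨1, Subtype.ext (by rw [pow_one]; exact hexp x x.2)⟩
  obtain ⟨k, hk⟩ := IsPGroup.iff_card.1 hNp
  have hL : ∀ g : G, Nat.card (dmap N hab g).range ∣ r := fun g =>
    card_dvd_of_squarefree hr (k := k)
      (hk ▸ card_range_dvd (dmap N hab g))
      ((card_dmap_range g).dvd.trans (QBaer.relIndex_dvd_index_normal' (centralizer ({g} : Set G)) N))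
      (h g)
  set C := centralizer (N : Set G) with hC
  by_cases hCtop : C = ⊤
  · obtain ⟨x, hx, hx1⟩ : ∃ x ∈ N, x ≠ 1 := by
      by_contra hc
      push Not at hc
      exact hM.ne_bot ((eq_bot_iff_forall N).2 hc)
    have hzn : (zpowers x).Normal := ⟨fun n hn g => by
      have : g * n = n * g :=
        (mem_centralizer_iff.1 (hCtop ▸ mem_top g : g ∈ C) n (zpowers_le.2 hx hn)).symm
      rwa [this, mul_inv_cancel_right]⟩
    rcases hM.eq_of_le _ hzn (zpowers_le.2 hx) with e | e
    · exact absurd (zpowers_eq_bot.1 e) hx1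
    · rw [← e, Nat.card_zpowers, ((Nat.dvd_prime hr).1 (orderOf_dvd_of_pow_eq_one (hexp x hx))).resolve_left
        fun e => hx1 (orderOf_eq_one_iff.1 e)]
      exact hr
  have hCn : C.Normal := by rw [hC]; infer_instance
  have : Nontrivial (G ⧸ C) := QuotientGroup.nontrivial_iff.2 hCtop
  obtain ⟨Ab, hAb⟩ := Core.exists_isMinNormal (G := G ⧸ C)
  have := hAb.normal
  have := hAb.isMulCommutative
  set A := Ab.comap (QuotientGroup.mk' C) with hA
  have hAn : A.Normal := hAb.normal.comap _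
  obtain ⟨a0, ha0, ha0C⟩ : ∃ a ∈ A, a ∉ C := by
    obtain ⟨ab, hab', hne⟩ : ∃ x ∈ Ab, x ≠ 1 := by
      by_contra hc
      push Not at hc
      exact hAb.ne_bot ((eq_bot_iff_forall Ab).2 hc)
    obtain ⟨a, rfl⟩ := QuotientGroup.mk'_surjective C ab
    exact ⟨a, hab', fun hc => hne ((QuotientGroup.eq_one_iff a).2 hc)⟩
  have hcomm : ∀ a ∈ A, ∀ b ∈ A, ∃ c ∈ C, a * b = b * a * c := by
    intro a ha b hb
    refine ⟨(b * a)⁻¹ * (a * b), ?_, by group⟩
    rw [← QuotientGroup.eq]
    exact congrArg Subtype.val (IsMulCommutative.is_comm.comm (⟨_, hb⟩ : Ab) ⟨_, ha⟩)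
  have hC' : ∀ c ∈ C, ∀ x : N, c * x * c⁻¹ = (x : G) := fun c hc x => by
    rw [(mem_centralizer_iff.1 hc x x.2).symm, mul_inv_cancel_right]
  have hne : ∀ a, a ∉ C → Nat.card (dmap N hab a).range = r := fun a ha =>
    ((Nat.dvd_prime hr).1 (hL a)).resolve_left fun e => ha (mem_centralizer_iff.2 fun x hx => by
      rw [card_dmap_range, relIndex_eq_one] at e
      exact mem_centralizer_singleton_iff.1 (e hx))
  have hrne : ∀ a, a ∉ C → (dmap N hab a).range ≠ ⊥ := fun a ha e => hr.one_lt.ne'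
    ((hne a ha).symm.trans (by rw [e, card_bot]))
  -- same image or same kernel
  have hpair : ∀ a ∈ A, a ∉ C → ∀ b ∈ A, b ∉ C →
      (dmap N hab a).range = (dmap N hab b).range ∨ (dmap N hab a).ker = (dmap N hab b).ker := by
    intro a ha haC b hb hbC
    by_cases hker : (dmap N hab a).ker = (dmap N hab b).ker
    · exact Or.inr hker
    have hidx : ∀ g, g ∉ C → (dmap N hab g).ker.index = r := fun g hg => by
      rw [Subgroup.index_ker, hne g hg]
    have hnle : ∀ g g', g ∉ C → g' ∉ C → (dmap N hab g).ker ≠ (dmap N hab g').ker →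
        ∃ v : N, v ∈ (dmap N hab g).ker ∧ v ∉ (dmap N hab g').ker := fun g g' hg hg' hne' => by
      refine SetLike.not_le_iff_exists.1 fun hle => hne' (le_antisymm hle ?_)
      have h1 := relIndex_mul_index hle
      rw [hidx g hg, hidx g' hg'] at h1
      exact relIndex_eq_one.1 ((Nat.mul_eq_right hr.ne_zero).1 h1)
    -- `g ↦ L_g` only depends on `g` modulo `C`, and `L_{g'} = L_{g g'}`
    have key : ∀ g ∈ A, g ∉ C → ∀ g' ∈ A, g' ∉ C → (dmap N hab g).ker ≠ (dmap N hab g').ker →
        (dmap N hab (g * g')).range = (dmap N hab g').range := by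
      intro g hg hgC g' hg' hg'C hne'
      obtain ⟨c, hc, hgg⟩ := hcomm g hg g' hg'
      obtain ⟨v, hv, hv'⟩ := hnle g g' hgC hg'C hne'
      set u := dmap N hab g' v with hu
      have huN : u ∈ N := dmap_range_le g' ⟨v, rfl⟩
      have e1 : dmap N hab (g * g') v = g * u * g⁻¹ := by
        have h0 : g * (v : G) * g⁻¹ = v := mul_inv_eq_one.1 (MonoidHom.mem_ker.1 hv)
        calc g * g' * v * (g * g')⁻¹ * (v : G)⁻¹
            = g * g' * v * (g * g')⁻¹ * (g * (v : G) * g⁻¹)⁻¹ := by rw [h0]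
          _ = g * (g' * v * g'⁻¹ * (v : G)⁻¹) * g⁻¹ := by group
      have e2 : g * u * g⁻¹ = dmap N hab g' ⟨g * v * g⁻¹, hN.conj_mem _ v.2 g⟩ := by
        show g * (g' * v * g'⁻¹ * (v : G)⁻¹) * g⁻¹ =
          g' * (g * v * g⁻¹) * g'⁻¹ * (g * (v : G) * g⁻¹)⁻¹
        have h0 : ∀ w : G, w = v → g * g' * w * (g * g')⁻¹ = g' * g * w * (g' * g)⁻¹ := by
          rintro w rfl
          rw [hgg]
          calc g' * g * c * (v : G) * (g' * g * c)⁻¹
              = g' * g * (c * (v : G) * c⁻¹) * (g' * g)⁻¹ := by group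
            _ = _ := by rw [hC' c hc v]
        calc g * (g' * v * g'⁻¹ * (v : G)⁻¹) * g⁻¹
            = (g * g' * v * (g * g')⁻¹) * (g * (v : G) * g⁻¹)⁻¹ := by group
          _ = _ := by rw [h0 v rfl]; group
      have hu1 : g * u * g⁻¹ ≠ 1 := fun e => hv' (MonoidHom.mem_ker.2 (conj_eq_one_iff.1 e))
      have hz : zpowers (g * u * g⁻¹) ≠ ⊥ := fun e => hu1 (zpowers_eq_bot.1 e)
      have m1 : zpowers (g * u * g⁻¹) ≤ (dmap N hab (g * g')).range :=
        zpowers_le.2 ⟨v, e1⟩
      have m2 : zpowers (g * u * g⁻¹) ≤ (dmap N hab g').range := zpowers_le.2 ⟨_, e2.symm⟩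
      exact ((subgroup_eq_of_le_of_card m1 hr hz (hL _)).1).symm.trans
        (subgroup_eq_of_le_of_card m2 hr hz (hL _)).1
    left
    have h1 := key a ha haC b hb hbC hker
    have h2 := key b hb hbC a ha haC (Ne.symm hker)
    obtain ⟨c, hc, hcc⟩ := hcomm a ha b hb
    have h3 : (dmap N hab (a * b)).range = (dmap N hab (b * a)).range := by
      congr 1
      refine MonoidHom.ext fun x => ?_
      simp only [dmap_apply, hcc]
      have := hC' c hc x
      calc b * a * c * x * (b * a * c)⁻¹ * (x : G)⁻¹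
          = b * a * (c * (x : G) * c⁻¹) * (b * a)⁻¹ * (x : G)⁻¹ := by group
        _ = _ := by rw [this]
    exact h2.symm.trans (h3.symm.trans h1)
  have hconj : ∀ (g a : G) (x : N), g * dmap N hab a x * g⁻¹ =
      dmap N hab (g * a * g⁻¹) ⟨g * x * g⁻¹, hN.conj_mem _ x.2 g⟩ := fun g a x => by
    simp only [dmap_apply]; group
  by_cases hsame : ∀ a ∈ A, a ∉ C → (dmap N hab a).range = (dmap N hab a0).range
  · have hLn : ((dmap N hab a0).range).Normal := ⟨by
      rintro _ ⟨x, rfl⟩ g
      have hgA : g * a0 * g⁻¹ ∈ A := hAn.conj_mem _ ha0 g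
      have hgC : g * a0 * g⁻¹ ∉ C := fun hc => ha0C (by
        have := hCn.conj_mem _ hc g⁻¹
        rwa [show g⁻¹ * (g * a0 * g⁻¹) * g⁻¹⁻¹ = a0 by group] at this)
      rw [← hsame _ hgA hgC, hconj]
      exact ⟨_, rfl⟩⟩
    rcases hM.eq_of_le _ hLn (dmap_range_le a0) with e | e
    · exact absurd e (hrne a0 ha0C)
    · rw [← e, hne a0 ha0C]; exact hr
  · push Not at hsame
    obtain ⟨a1, ha1, ha1C, ha10⟩ := hsame
    have hker10 := (hpair a1 ha1 ha1C a0 ha0 ha0C).resolve_left ha10
    have hallker : ∀ a ∈ A, a ∉ C → (dmap N hab a).ker = (dmap N hab a0).ker := by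
      intro a ha haC
      rcases hpair a ha haC a0 ha0 ha0C with e | e
      · rcases hpair a ha haC a1 ha1 ha1C with e' | e'
        · exact absurd (e'.symm.trans e) ha10
        · exact e'.trans hker10
      · exact e
    have hKn : ((dmap N hab a0).ker.map N.subtype).Normal := ⟨by
      rintro _ ⟨x, hx, rfl⟩ g
      refine ⟨⟨g * x * g⁻¹, hN.conj_mem _ x.2 g⟩, ?_, rfl⟩
      have hgA : g⁻¹ * a0 * g ∈ A := by simpa using hAn.conj_mem _ ha0 g⁻¹
      have hgC : g⁻¹ * a0 * g ∉ C := fun hc => ha0C (by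
        have := hCn.conj_mem _ hc g
        rwa [show g * (g⁻¹ * a0 * g) * g⁻¹ = a0 by group] at this)
      have hx' : dmap N hab (g⁻¹ * a0 * g) x = 1 :=
        MonoidHom.mem_ker.1 ((hallker _ hgA hgC).symm ▸ hx)
      show dmap N hab a0 ⟨g * x * g⁻¹, _⟩ = 1
      have := hconj g (g⁻¹ * a0 * g) x
      rw [hx', mul_one, mul_inv_cancel] at this
      simp only [show g * (g⁻¹ * a0 * g) * g⁻¹ = a0 by group] at this
      exact this.symm⟩
    have hidx0 : (dmap N hab a0).ker.index = r := by rw [Subgroup.index_ker, hne a0 ha0C]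
    rcases hM.eq_of_le _ hKn (map_subtype_le _) with e | e
    · rw [map_eq_bot_iff_of_injective _ N.subtype_injective] at e
      rw [e, index_bot] at hidx0
      rw [hidx0]; exact hr
    · refine absurd ?_ hr.one_lt.ne'
      rw [← hidx0, index_eq_one]
      exact eq_top_iff.2 fun x _ => by
        obtain ⟨y, hy, hyx⟩ := (e.symm ▸ x.2 : (x : G) ∈ (dmap N hab a0).ker.map N.subtype)
        exact (Subtype.ext hyx : y = x) ▸ hy

theorem isSupersolvable_of_sq : ∀ (n : ℕ) (G : Type u) [Group G] [Finite G],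
    Nat.card G = n → SQ G → Cfsg.IsSupersolvable G := by
  intro n
  induction n using Nat.strong_induction_on with
  | _ n ih =>
    intro G _ _ hn h
    rcases subsingleton_or_nontrivial G with hs | hs
    · exact Core.isSupersolvable_of_subsingleton
    have := isSolvable_of_sq _ G rfl h
    obtain ⟨M, hM⟩ := Core.exists_isMinNormal (G := G)
    have := hM.normal
    have hp := h.card_prime hM
    have := Core.isCyclic_of_card_prime hp
    exact Core.isSupersolvable_of_cyclic_normal M
      (ih _ (hn ▸ Core.card_quotient_lt hM.ne_bot) _ rfl (h.map (QuotientGroup.mk'_surjective M)))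

end Cfsg.Agent.SqClass
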