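import Mathlib
import Cfsg.Agent.QBaer.Structure
import Cfsg.Agent.TwoClassSizes.Main
import Cfsg.Agent.Core.Frattini

/-!
# Simple groups and square-free class sizes

If `p` is the smallest prime divisor of the order of a non-abelian simple group, then some class
size is divisible by `p ^ 2`.
-/

set_option autoImplicit false

namespace Cfsg.Agent.SqClass

open Subgroup

variable {G : Type*} [Group G] [Finite G] {p : ℕ}

/-- `C(g)` contains a subgroup of index at most `p` in some Sylow subgroup. -/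
theorem exists_sylow_relIndex [hp : Fact p.Prime] {g : G}
    (h : ¬ p ^ 2 ∣ (centralizer ({g} : Set G)).index) :
    ∃ S : Sylow p G, (centralizer ({g} : Set G)).relIndex (S : Subgroup G) ∣ p := by
  obtain ⟨T⟩ := (inferInstance : Nonempty (Sylow p (centralizer ({g} : Set G))))
  set C := centralizer ({g} : Set G) with hC
  set M := (T : Subgroup C).map C.subtype with hM
  obtain ⟨S, hS⟩ := (T.isPGroup'.map C.subtype).exists_le_sylow
  refine ⟨S, (relIndex_dvd_of_le_left _ (map_subtype_le _ : M ≤ C)).trans ?_⟩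
  obtain ⟨n, hn⟩ := IsPGroup.iff_card.1 S.isPGroup'
  obtain ⟨k, -, hk⟩ := (Nat.dvd_prime_pow hp.out).1
    (hn ▸ (index_dvd_card (M.subgroupOf (S : Subgroup G))))
  have hMS : M.relIndex (S : Subgroup G) = p ^ k := hk
  have h2 : M.relIndex (S : Subgroup G) ∣ M.index := ⟨_, (relIndex_mul_index hS).symm⟩
  rw [hMS]
  by_contra hk2
  have hk' : 2 ≤ k := by
    rcases Nat.lt_or_ge k 2 with hlt | hge
    · exact absurd (pow_dvd_pow p (by omega : k ≤ 1)) (by rwa [pow_one])
    · exact hge
  have h3 : p ^ 2 ∣ (T : Subgroup C).index * C.index := by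
    rw [← index_map_subtype]
    exact ((pow_dvd_pow p hk').trans (hMS ▸ h2))
  exact h ((Nat.Coprime.pow_left 2 (hp.out.coprime_iff_not_dvd.2 T.not_dvd_index)).dvd_of_dvd_mul_left h3)

/-- Powers of an isolated element of a Sylow subgroup are isolated. -/
theorem isolated_pow [hp : Fact p.Prime] (P : Sylow p G) {x : G} (hx : x ∈ (P : Subgroup G))
    (hiso : ∀ g : G, g * x * g⁻¹ ∈ (P : Subgroup G) → g * x * g⁻¹ = x) (k : ℕ) (g : G)
    (hg : g⁻¹ * x ^ k * g ∈ (P : Subgroup G)) : g⁻¹ * x ^ k * g = x ^ k := by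
  set w := g⁻¹ * x ^ k * g with hw
  have hcent : ∀ s ∈ (P : Subgroup G), s * x = x * s := fun s hs =>
    mul_inv_eq_iff_eq_mul.1 (hiso s (mul_mem (mul_mem hs hx) (inv_mem hs)))
  set C := centralizer ({w} : Set G) with hC
  have hxC : x ∈ C := mem_centralizer_singleton_iff.2 (hcent w hg).symm
  have hyC : g⁻¹ * x * g ∈ C := mem_centralizer_singleton_iff.2 (by rw [hw]; group)
  obtain ⟨n, hn⟩ := IsPGroup.iff_orderOf.1 P.isPGroup' ⟨x, hx⟩
  rw [orderOf_mk] at hn
  obtain ⟨R1, hR1⟩ := (IsPGroup.of_card (p := p) (G := zpowers (⟨x, hxC⟩ : C)) (n := n)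
    (by rw [Nat.card_zpowers, orderOf_mk, hn])).exists_le_sylow
  obtain ⟨R2, hR2⟩ := (IsPGroup.of_card (p := p) (G := zpowers (⟨_, hyC⟩ : C)) (n := n)
    (by rw [Nat.card_zpowers, orderOf_mk,
      show g⁻¹ * x * g = MulAut.conj g⁻¹ x by simp [MulAut.conj_apply], MulEquiv.orderOf_eq,
      hn])).exists_le_sylow
  obtain ⟨h, hh⟩ := MulAction.exists_smul_eq C R2 R1
  have hyR : h * ⟨_, hyC⟩ * h⁻¹ ∈ (R1 : Subgroup C) := by
    rw [← hh]; exact ⟨_, hR2 (mem_zpowers _), rfl⟩
  obtain ⟨S, hS⟩ := (R1.isPGroup'.map C.subtype).exists_le_sylow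
  obtain ⟨y, hy⟩ := MulAction.exists_smul_eq G S P
  have key : ∀ z : C, z ∈ (R1 : Subgroup C) → y * (z : G) * y⁻¹ ∈ (P : Subgroup G) := fun z hz => by
    rw [← hy]; exact ⟨z, hS ⟨z, hz, rfl⟩, rfl⟩
  have h1 := hiso y (key _ (hR1 (mem_zpowers _)))
  have h2 : y * ((h : G) * (g⁻¹ * x * g) * (h : G)⁻¹) * y⁻¹ = x := by
    have h3 : y * ((h : G) * (g⁻¹ * x * g) * (h : G)⁻¹) * y⁻¹ ∈ (P : Subgroup G) := key _ hyR
    have e : y * ((h : G) * (g⁻¹ * x * g) * (h : G)⁻¹) * y⁻¹ =
        (y * h * g⁻¹) * x * (y * h * g⁻¹)⁻¹ := by group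
    rw [e] at h3 ⊢
    exact hiso _ h3
  have h4 : (h : G) * (g⁻¹ * x * g) * (h : G)⁻¹ = x := by
    have h5 := h2.trans h1.symm
    exact mul_left_cancel (mul_right_cancel h5)
  have hhw : (h : G) * w * (h : G)⁻¹ = w :=
    mul_inv_eq_iff_eq_mul.2 (mem_centralizer_singleton_iff.1 h.2)
  rw [← hhw]
  conv_rhs => rw [← h4, conj_pow]
  rw [hw, show g⁻¹ * x * g = g⁻¹ * x * g⁻¹⁻¹ by rw [inv_inv], conj_pow, inv_inv]

/-- In a perfect group an isolated element of a Sylow subgroup is in its derived subgroup. -/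
theorem mem_commutator_of_isolated [hp : Fact p.Prime] (hperf : commutator G = ⊤) (P : Sylow p G)
    {x : G} (hx : x ∈ (P : Subgroup G))
    (hiso : ∀ g : G, g * x * g⁻¹ ∈ (P : Subgroup G) → g * x * g⁻¹ = x) :
    (⟨x, hx⟩ : (P : Subgroup G)) ∈ commutator (P : Subgroup G) := by
  set φ : (P : Subgroup G) →* Abelianization (P : Subgroup G) := Abelianization.of with hφ
  have key := fun k g => isolated_pow P hx hiso k g
  have h1 := MonoidHom.transfer_eq_pow (H := (P : Subgroup G)) (ϕ := φ) x key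
  have h2 : MonoidHom.transfer φ x = 1 :=
    MonoidHom.mem_ker.1 (Abelianization.commutator_subset_ker _ (hperf ▸ mem_top x))
  rw [h2] at h1
  have h3 : φ ⟨x, hx⟩ ^ (P : Subgroup G).index = 1 := by
    rw [← map_pow]
    exact h1.symm
  obtain ⟨n, hn⟩ := IsPGroup.iff_orderOf.1 P.isPGroup' ⟨x, hx⟩
  have h4 : orderOf (φ ⟨x, hx⟩) ∣ Nat.gcd (p ^ n) (P : Subgroup G).index :=
    Nat.dvd_gcd (hn ▸ orderOf_map_dvd φ ⟨x, hx⟩) (orderOf_dvd_of_pow_eq_one h3)
  rw [((hp.out.coprime_iff_not_dvd.2 P.not_dvd_index).pow_left n).gcd_eq_one, Nat.dvd_one,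
    orderOf_eq_one_iff] at h4
  exact (QuotientGroup.eq_one_iff _).1 h4

/-- A non-abelian simple group has a class size divisible by the square of its smallest prime. -/
theorem exists_sq_dvd_index [hp : Fact p.Prime] [IsSimpleGroup G]
    (hna : ∃ a b : G, a * b ≠ b * a) (hpd : p ∣ Nat.card G)
    (hmin : ∀ r : ℕ, r.Prime → r ∣ Nat.card G → p ≤ r) :
    ∃ g : G, p ^ 2 ∣ (centralizer ({g} : Set G)).index := by
  classical
  by_contra hcon
  push Not at hcon
  obtain ⟨P⟩ := (inferInstance : Nonempty (Sylow p G))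
  have hcb : center G = ⊥ := by
    rcases (inferInstance : (center G).Normal).eq_bot_or_eq_top with h | h
    · exact h
    · obtain ⟨a, b, hab⟩ := hna
      exact absurd (mem_center_iff.1 (h ▸ mem_top b : b ∈ center G) a) hab
  have hperf : commutator G = ⊤ := by
    rcases (inferInstance : (commutator G).Normal).eq_bot_or_eq_top with h | h
    · obtain ⟨a, b, hab⟩ := hna
      rw [_root_.commutator_def, commutator_eq_bot_iff_le_centralizer] at h
      exact absurd (mem_centralizer_iff.1 (h (mem_top a)) b (mem_top b)).symm hab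
    · exact h
  -- no nontrivial element of `P` is isolated
  have hnoiso : ∀ x ∈ (P : Subgroup G), x ≠ 1 →
      ∃ g : G, g * x * g⁻¹ ∈ (P : Subgroup G) ∧ g * x * g⁻¹ ≠ x := by
    intro x hx hx1
    by_contra hiso
    push Not at hiso
    have hxc := mem_commutator_of_isolated hperf P hx hiso
    have := P.isPGroup'.isNilpotent
    have hxF := Core.commutator_le_frattini hxc
    have hxtop : centralizer ({x} : Set G) ≠ ⊤ := fun e => hx1 (by
      have : x ∈ center G := mem_center_iff.2 fun g =>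
        mem_centralizer_singleton_iff.1 (e ▸ mem_top g : g ∈ centralizer ({x} : Set G))
      rwa [hcb, mem_bot] at this)
    obtain ⟨v, hv⟩ := TwoClassSizes.exists_not_mem_conj hxtop
    obtain ⟨S, hS⟩ := exists_sylow_relIndex (hcon v)
    obtain ⟨y, hy⟩ := MulAction.exists_smul_eq G S P
    set M := ((centralizer ({y * v * y⁻¹} : Set G)).subgroupOf (P : Subgroup G)) with hM
    have hMi : M.index ∣ p := by
      have hmap : ((centralizer ({v} : Set G))).map (MulAut.conj y).toMonoidHom =
          centralizer ({y * v * y⁻¹} : Set G) := by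
        ext c
        simp only [mem_map, mem_centralizer_singleton_iff, MulEquiv.coe_toMonoidHom, MulAut.conj_apply]
        constructor
        · rintro ⟨d, hd, rfl⟩
          calc y * d * y⁻¹ * (y * v * y⁻¹) = y * (d * v) * y⁻¹ := by group
            _ = _ := by rw [hd]; group
        · intro hc
          refine ⟨y⁻¹ * c * y, ?_, by group⟩
          calc y⁻¹ * c * y * v = y⁻¹ * (c * (y * v * y⁻¹)) * y := by group
            _ = _ := by rw [hc]; group
      have hPS : (P : Subgroup G) = (S : Subgroup G).map (MulAut.conj y).toMonoidHom := by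
        rw [← hy]; rfl
      show (centralizer ({y * v * y⁻¹} : Set G)).relIndex (P : Subgroup G) ∣ p
      rw [← hmap, hPS, relIndex_map_map_of_injective _ _ (MulAut.conj y).injective]
      exact hS
    have hxM : (⟨x, hx⟩ : (P : Subgroup G)) ∈ M := by
      rcases eq_top_or_exists_le_coatom M with e | ⟨K, hK, hMK⟩
      · rw [e]; exact mem_top _
      · have hKi : K.index = M.index := by
          refine Nat.dvd_antisymm (index_dvd_of_le hMK) ?_
          rcases (Nat.dvd_prime hp.out).1 ((index_dvd_of_le hMK).trans hMi) with e | e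
          · exact absurd (index_eq_one.1 e) hK.1
          · rw [e]; exact hMi
        have : K ≤ M := by
          have h1 := relIndex_mul_index hMK
          rw [hKi] at h1
          exact relIndex_eq_one.1 ((Nat.mul_eq_right (index_ne_zero_of_finite)).1 h1)
        exact this (frattini_le_coatom hK hxF)
    refine hv y⁻¹ ?_
    rw [inv_inv, mem_centralizer_singleton_iff]
    exact (mem_centralizer_singleton_iff.1 (mem_subgroupOf.1 hxM)).symm
  -- every class of `p`-elements meets `P` in at least `p` elements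
  have hmeet : ∀ x ∈ (P : Subgroup G), x ≠ 1 →
      p ≤ Nat.card {y : G // y ∈ (P : Subgroup G) ∧ IsConj x y} := by
    intro x hx hx1
    have hmove : ∃ z, (z ∈ (P : Subgroup G) ∧ IsConj x z) ∧
        ∃ n ∈ normalizer ((P : Subgroup G) : Set G), n * z * n⁻¹ ≠ z := by
      by_cases hc : ∀ z ∈ (P : Subgroup G), IsConj x z → z ∈ centralizer ((P : Subgroup G) : Set G)
      · obtain ⟨g, hg, hgne⟩ := hnoiso x hx hx1
        obtain ⟨n, hn, e⟩ := P.conj_eq_normalizer_conj_of_mem_centralizer x g⁻¹
          (hc x hx (IsConj.refl x)) (by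
            rw [inv_inv]; exact hc _ hg (isConj_iff.2 ⟨g, rfl⟩))
        rw [inv_inv] at e
        refine ⟨x, ⟨hx, IsConj.refl x⟩, n⁻¹, inv_mem hn, ?_⟩
        rw [inv_inv, ← e]
        exact hgne
      · push Not at hc
        obtain ⟨z, hz, hzc, hzn⟩ := hc
        rw [mem_centralizer_iff] at hzn
        push Not at hzn
        obtain ⟨s, hs, hsz⟩ := hzn
        exact ⟨z, ⟨hz, hzc⟩, s, le_normalizer hs, fun e => hsz (mul_inv_eq_iff_eq_mul.1 e)⟩
    obtain ⟨z, ⟨hz, hzc⟩, n, hn, hne⟩ := hmove
    set N := normalizer ((P : Subgroup G) : Set G) with hN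
    set D := ((centralizer ({z} : Set G))).relIndex N with hD
    have hD1 : D ≠ 1 := fun e => hne
      (mul_inv_eq_iff_eq_mul.2 (mem_centralizer_singleton_iff.1 (relIndex_eq_one.1 e hn)))
    have hDd : D ∣ Nat.card G :=
      (index_dvd_card _).trans (card_subgroup_dvd_card N)
    have hpD : p ≤ D :=
      (hmin _ (Nat.minFac_prime hD1) ((Nat.minFac_dvd D).trans hDd)).trans
        (Nat.minFac_le (Nat.pos_of_ne_zero fun e => Nat.card_pos.ne'
          (zero_dvd_iff.1 (e ▸ hDd))))
    refine hpD.trans ?_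
    let f : N ⧸ (centralizer ({z} : Set G)).subgroupOf N →
        {y : G // y ∈ (P : Subgroup G) ∧ IsConj x y} :=
      Quotient.lift (fun m : N => ⟨(m : G) * z * (m : G)⁻¹,
        ((mem_normalizer_iff.1 m.2) z).1 hz, hzc.trans (isConj_iff.2 ⟨m, rfl⟩)⟩) (by
        intro a b hab
        have h1 := mem_centralizer_singleton_iff.1
          (mem_subgroupOf.1 (QuotientGroup.leftRel_apply.1 hab))
        rw [Subgroup.coe_mul, InvMemClass.coe_inv] at h1
        refine Subtype.ext ?_
        show (a : G) * z * (a : G)⁻¹ = (b : G) * z * (b : G)⁻¹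
        calc (a : G) * z * (a : G)⁻¹ = (a : G) * (z * ((a : G)⁻¹ * b)) * (b : G)⁻¹ := by group
          _ = _ := by rw [← h1]; group)
    refine Nat.card_le_card_of_injective f ?_
    rintro ⟨a⟩ ⟨b⟩ hab
    refine Quotient.sound (QuotientGroup.leftRel_apply.2 (mem_subgroupOf.2 ?_))
    have h1 : (a : G) * z * (a : G)⁻¹ = (b : G) * z * (b : G)⁻¹ := congrArg Subtype.val hab
    rw [Subgroup.coe_mul, InvMemClass.coe_inv, mem_centralizer_singleton_iff]
    calc (a : G)⁻¹ * b * z = (a : G)⁻¹ * ((b : G) * z * (b : G)⁻¹) * b := by group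
      _ = _ := by rw [← h1]; group
  -- counting
  have := Fintype.ofFinite G
  set E := Finset.univ.filter (fun x : G => ∃ k : ℕ, orderOf x = p ^ k) with hE
  set PP := Finset.univ.filter (fun x : G => x ∈ (P : Subgroup G)) with hPP
  set c : G → ℕ := fun x => Nat.card (centralizer ({x} : Set G)) with hc
  have hfib : ∀ y : G, ∑ x ∈ Finset.univ.filter (fun x : G => IsConj x y), c x = Nat.card G := by
    intro y
    have hconst : ∀ x ∈ Finset.univ.filter (fun x : G => IsConj x y), c x = c y := by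
      intro x hx
      obtain ⟨g, rfl⟩ := isConj_iff.1 (Finset.mem_filter.1 hx).2
      have h1 := (centralizer ({g * x * g⁻¹} : Set G)).index_mul_card
      rw [QBaer.index_centralizer_conj, ← (centralizer ({x} : Set G)).index_mul_card] at h1
      exact ((Nat.mul_left_cancel_iff (Nat.pos_of_ne_zero index_ne_zero_of_finite)).1 h1).symm
    rw [Finset.sum_congr rfl hconst, Finset.sum_const, smul_eq_mul]
    have : (Finset.univ.filter (fun x : G => IsConj x y)).card =
        (centralizer ({y} : Set G)).index := by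
      rw [← Char.ncard_carrier, Set.ncard_eq_toFinset_card']
      congr 1
      ext x
      simp [ConjClasses.mem_carrier_iff_mk_eq, ConjClasses.mk_eq_mk_iff_isConj]
    rw [this]
    exact index_mul_card _
  have hPel : ∀ x ∈ (P : Subgroup G), ∃ k, orderOf x = p ^ k := fun x hx => by
    obtain ⟨k, hk⟩ := IsPGroup.iff_orderOf.1 P.isPGroup' ⟨x, hx⟩
    exact ⟨k, by rw [← hk, orderOf_mk]⟩
  have hEconj : ∀ x y : G, IsConj x y → (∃ k, orderOf x = p ^ k) → ∃ k, orderOf y = p ^ k := by
    intro x y hxy ⟨k, hk⟩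
    obtain ⟨g, rfl⟩ := isConj_iff.1 hxy
    exact ⟨k, by rw [← MulAut.conj_apply, MulEquiv.orderOf_eq, hk]⟩
  -- `∑ c` is a multiple of `|G|`
  obtain ⟨k, hk⟩ : ∃ k, ∑ x ∈ E, c x = k * Nat.card G := by
    refine ⟨(E.image ConjClasses.mk).card, ?_⟩
    rw [← Finset.sum_fiberwise_of_maps_to (t := E.image ConjClasses.mk) (g := ConjClasses.mk)
      (fun x hx => Finset.mem_image_of_mem _ hx) c]
    refine (Finset.sum_congr rfl fun cl hcl => ?_).trans (by rw [Finset.sum_const, smul_eq_mul])
    obtain ⟨y, hy, rfl⟩ := Finset.mem_image.1 hcl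
    rw [← hfib y]
    refine Finset.sum_congr ?_ fun _ _ => rfl
    ext x
    simp only [Finset.mem_filter, Finset.mem_univ, true_and, hE, ConjClasses.mk_eq_mk_iff_isConj]
    exact ⟨fun h => h.2, fun h => ⟨hEconj y x h.symm (Finset.mem_filter.1 hy).2, h⟩⟩
  have h1E : (1 : G) ∈ E := Finset.mem_filter.2 ⟨Finset.mem_univ _, 0, by simp⟩
  have hc1 : c 1 = Nat.card G := by
    have : centralizer ({1} : Set G) = ⊤ := eq_top_iff.2 fun g _ => by
      rw [mem_centralizer_singleton_iff, mul_one, one_mul]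
    show Nat.card (centralizer ({1} : Set G)) = _
    rw [this]; exact card_top
  have hPcard : PP.card = Nat.card (P : Subgroup G) := by
    rw [Nat.card_eq_fintype_card, Fintype.card_subtype]
  have hupper : p * ∑ x ∈ E.erase 1, c x ≤ (Nat.card (P : Subgroup G) - 1) * Nat.card G := by
    rw [← hPcard, ← Finset.card_erase_of_mem (s := PP) (a := (1 : G))
      (Finset.mem_filter.2 ⟨Finset.mem_univ _, one_mem _⟩), Finset.mul_sum, ← smul_eq_mul,
      ← Finset.sum_const, ← Finset.sum_congr rfl (fun y _ => hfib y)]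
    calc ∑ x ∈ E.erase 1, p * c x
        ≤ ∑ x ∈ E.erase 1, ∑ y ∈ PP.erase 1, (if IsConj x y then c x else 0) := by
          refine Finset.sum_le_sum fun x hx => ?_
          rw [← Finset.sum_filter, Finset.sum_const, smul_eq_mul]
          refine Nat.mul_le_mul_right _ ?_
          obtain ⟨hx1, hxE⟩ := Finset.mem_erase.1 hx
          obtain ⟨k, hk⟩ := (Finset.mem_filter.1 hxE).2
          obtain ⟨S, hS⟩ := (IsPGroup.of_card (p := p) (G := zpowers x) (n := k)
            (by rw [Nat.card_zpowers, hk])).exists_le_sylow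
          obtain ⟨g, hg⟩ := MulAction.exists_smul_eq G S P
          have hgx : g * x * g⁻¹ ∈ (P : Subgroup G) := by
            rw [← hg]; exact ⟨x, hS (mem_zpowers x), rfl⟩
          refine (hmeet _ hgx fun e => hx1 (conj_eq_one_iff.1 e)).trans (le_of_eq ?_)
          rw [Nat.card_eq_fintype_card, Fintype.card_subtype]
          congr 1
          ext y
          simp only [Finset.mem_filter, Finset.mem_univ, true_and, Finset.mem_erase, hPP]
          have hxg : IsConj x (g * x * g⁻¹) := isConj_iff.2 ⟨g, rfl⟩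
          exact ⟨fun h => ⟨⟨fun e => hx1 (isConj_one_left.1 ((hxg.trans (e ▸ h.2)))), h.1⟩,
            hxg.trans h.2⟩, fun h => ⟨h.1.2, hxg.symm.trans h.2⟩⟩
      _ = ∑ y ∈ PP.erase 1, ∑ x ∈ E.erase 1, (if IsConj x y then c x else 0) := Finset.sum_comm
      _ ≤ _ := by
          refine Finset.sum_le_sum fun y _ => ?_
          rw [← Finset.sum_filter]
          exact Finset.sum_le_sum_of_subset_of_nonneg
            (fun x hx => Finset.mem_filter.2 ⟨Finset.mem_univ _, (Finset.mem_filter.1 hx).2⟩)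
            fun _ _ _ => Nat.zero_le _
  -- each centralizer has many `p`-elements
  have hlow : ∀ g : G, Nat.card (P : Subgroup G) ≤
      p * (E.filter fun x => x * g = g * x).card := by
    intro g
    obtain ⟨S, hS⟩ := exists_sylow_relIndex (hcon g)
    have h1 := relIndex_mul_index (inf_le_right : centralizer ({g} : Set G) ⊓ S ≤ S)
    set M := centralizer ({g} : Set G) ⊓ (S : Subgroup G) with hM
    have h2 : (M.subgroupOf (S : Subgroup G)).index * Nat.card (M.subgroupOf (S : Subgroup G)) =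
        Nat.card (S : Subgroup G) := index_mul_card _
    rw [show (M.subgroupOf (S : Subgroup G)).index =
      (centralizer ({g} : Set G)).relIndex (S : Subgroup G) from inf_relIndex_right _ _] at h2
    rw [← P.card_eq_multiplicity.trans S.card_eq_multiplicity.symm] at h2
    rw [← h2]
    refine Nat.mul_le_mul (Nat.le_of_dvd hp.out.pos hS) ?_
    rw [Nat.card_congr (subgroupOfEquivOfLe (inf_le_right : M ≤ S)).toEquiv,
      Nat.card_eq_fintype_card, Fintype.card_subtype]
    refine Finset.card_le_card fun x hx => ?_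
    obtain ⟨hxC, hxS⟩ := mem_inf.1 (Finset.mem_filter.1 hx).2
    refine Finset.mem_filter.2 ⟨Finset.mem_filter.2 ⟨Finset.mem_univ _, ?_⟩,
      mem_centralizer_singleton_iff.1 hxC⟩
    obtain ⟨k, hk⟩ := IsPGroup.iff_orderOf.1 S.isPGroup' ⟨x, hxS⟩
    exact ⟨k, by rw [← hk, orderOf_mk]⟩
  have hswap : ∑ x ∈ E, c x = ∑ g : G, (E.filter fun x => x * g = g * x).card := by
    have e : ∀ x : G, c x = ∑ g : G, if x * g = g * x then 1 else 0 := fun x => by
      rw [← Finset.card_filter, ← Fintype.card_subtype]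
      show Nat.card (centralizer ({x} : Set G)) = _
      rw [Nat.card_eq_fintype_card]
      refine Fintype.card_congr (Equiv.subtypeEquivRight fun g => ?_)
      rw [mem_centralizer_singleton_iff, eq_comm]
    simp only [e]
    rw [Finset.sum_comm]
    exact Finset.sum_congr rfl fun g _ => (Finset.card_filter _ _).symm
  have hP1 : p * 1 ≤ Nat.card (P : Subgroup G) := by
    rw [mul_one]; exact Nat.le_of_dvd Nat.card_pos (P.dvd_card_of_dvd_card hpd)
  have hEcard : Nat.card (P : Subgroup G) ≤ (E.filter fun x => x * 1 = 1 * x).card := by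
    rw [← hPcard]
    refine Finset.card_le_card fun x hx => Finset.mem_filter.2 ⟨Finset.mem_filter.2
      ⟨Finset.mem_univ _, hPel x (Finset.mem_filter.1 hx).2⟩, by simp⟩
  have hsum_low : Nat.card G * Nat.card (P : Subgroup G) < p * (k * Nat.card G) := by
    rw [← hk, hswap, Finset.mul_sum, Nat.card_eq_fintype_card (α := G), ← Finset.card_univ,
      ← smul_eq_mul, ← Finset.sum_const]
    refine Finset.sum_lt_sum (fun g _ => hlow g) ⟨1, Finset.mem_univ _, ?_⟩
    calc Nat.card (P : Subgroup G) = 1 * Nat.card (P : Subgroup G) := (one_mul _).symm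
      _ < p * Nat.card (P : Subgroup G) := Nat.mul_lt_mul_of_pos_right hp.out.one_lt Nat.card_pos
      _ ≤ _ := Nat.mul_le_mul_left _ hEcard
  rw [← Finset.add_sum_erase E c h1E, hc1] at hk
  obtain ⟨m, hm⟩ := P.dvd_card_of_dvd_card hpd
  have hG0 : 0 < Nat.card G := Nat.card_pos
  have hk1 : 1 ≤ k := by
    rcases Nat.eq_zero_or_pos k with rfl | h
    · rw [zero_mul] at hk; omega
    · exact h
  have hrest : ∑ x ∈ E.erase 1, c x = (k - 1) * Nat.card G := by
    rw [Nat.sub_one_mul]; omega
  rw [hrest, ← mul_assoc] at hupper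
  have hu := Nat.le_of_mul_le_mul_right hupper hG0
  rw [hm] at hu hsum_low
  have hlt : p * (k - 1) < p * m :=
    lt_of_le_of_lt hu (Nat.sub_lt (hm ▸ (Nat.card_pos : 0 < Nat.card (P : Subgroup G))) Nat.one_pos)
  have hkm : k ≤ m := by
    have := Nat.lt_of_mul_lt_mul_left hlt
    omega
  have h9 : p * (k * Nat.card G) ≤ Nat.card G * (p * m) := by
    calc p * (k * Nat.card G) = Nat.card G * (p * k) := by ring
      _ ≤ _ := Nat.mul_le_mul_left _ (Nat.mul_le_mul_left _ hkm)
  omega

end Cfsg.Agent.SqClass
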